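import Groth.Agent.ExtFilt28.Main
import Groth.Agent.DCat.TensorAssoc
import Groth.Agent.VarietyLib.TensorExact
import Groth.Agent.Props12.FinLocFree
import Groth.Agent.Coherent.CohBC.PushStructure
import Mathlib

/-!
# The pre-λ-ring structure on `K₀` of finite locally free modules
-/

set_option autoImplicit false
set_option linter.style.haveILetI false
set_option backward.isDefEq.respectTransparency.types false
set_option maxHeartbeats 1000000

universe u

open CategoryTheory CategoryTheory.Limits AlgebraicGeometry Opposite TopologicalSpace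
open Groth.Agent.Coherent Groth.Agent.PicLib Groth.Agent.AmpleLib Groth.Agent.GrassLib.PBundle
open scoped ZeroObject

namespace Groth.Agent.KvbLam28

variable {X : Scheme.{u}}

local notation "KV" => KZero.K0sub (fun M : X.Modules => FlatMod.IsFinLocFree M)
local notation "clv" => KZero.clSub (fun M : X.Modules => FlatMod.IsFinLocFree M)

theorem mk_eq_clv (E : Subtype (fun M : X.Modules => FlatMod.IsFinLocFree M)) :
    (QuotientAddGroup.mk (FreeAbelianGroup.of E) : KV) = clv E.1 := by
  rw [KZero.clSub, dif_pos E.2]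

/-- Induction on classes. -/
theorem kvb_induction {P : KV → Prop} (h0 : P 0) (hcl : ∀ E, FlatMod.IsFinLocFree E → P (clv E))
    (hneg : ∀ x, P x → P (-x)) (hadd : ∀ x y, P x → P y → P (x + y)) (x : KV) : P x := by
  obtain ⟨y, rfl⟩ := QuotientAddGroup.mk_surjective x
  induction y using FreeAbelianGroup.induction_on with
  | zero => exact h0
  | of E => rw [mk_eq_clv]; exact hcl E.1 E.2
  | neg E h => exact hneg _ h
  | add a b ha hb => exact hadd _ _ ha hb

/-- Functions additive on short exact sequences descend. -/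
theorem exists_lift {G : Type (u + 1)} [AddCommGroup G] (f : X.Modules → G)
    (hf : ∀ S : ShortComplex X.Modules, S.ShortExact → FlatMod.IsFinLocFree S.X₁ → FlatMod.IsFinLocFree S.X₂ →
      FlatMod.IsFinLocFree S.X₃ → f S.X₂ = f S.X₁ + f S.X₃) :
    ∃ F : KV →+ G, ∀ E, FlatMod.IsFinLocFree E → F (clv E) = f E := by
  refine ⟨QuotientAddGroup.lift _ (FreeAbelianGroup.lift fun E => f E.1) ?_, fun E hE => ?_⟩
  · refine (AddSubgroup.closure_le _).2 ?_
    rintro _ ⟨S, h₁, h₂, h₃, hS, rfl⟩
    rw [SetLike.mem_coe, AddMonoidHom.mem_ker, map_sub, map_sub, FreeAbelianGroup.lift_apply_of,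
      FreeAbelianGroup.lift_apply_of, FreeAbelianGroup.lift_apply_of, hf S hS h₁ h₂ h₃]
    abel
  · rw [← mk_eq_clv ⟨E, hE⟩]
    exact FreeAbelianGroup.lift_apply_of _ _

theorem clv_tensor_ses {E : X.Modules} (hE : FlatMod.IsFinLocFree E) {S : ShortComplex X.Modules} (hS : S.ShortExact)
    (h₁ : FlatMod.IsFinLocFree S.X₁) (h₂ : FlatMod.IsFinLocFree S.X₂) (h₃ : FlatMod.IsFinLocFree S.X₃) :
    clv (CohB1.tensorMod S.X₂ E) = clv (CohB1.tensorMod S.X₁ E) + clv (CohB1.tensorMod S.X₃ E) := by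
  haveI := CAlgH3.LocFreeFactor.isQCoh_of_finLocFree hE
  obtain ⟨T, hT, e₁, e₂, e₃⟩ := VarietyLib.exists_tensorSeq hS E fun x => by
    haveI := Props12.free_stalk_of_isFinLocFree E hE x
    infer_instance
  rw [← e₁, ← e₂, ← e₃]
  exact ExtFilt28.clv_ses hT (e₁ ▸ ExtFilt28.isFinLocFree_tensor h₁ hE) (e₂ ▸ ExtFilt28.isFinLocFree_tensor h₂ hE)
    (e₃ ▸ ExtFilt28.isFinLocFree_tensor h₃ hE)

theorem exists_mul : ∃ mul : KV →+ KV →+ KV, ∀ E F, FlatMod.IsFinLocFree E → FlatMod.IsFinLocFree F →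
    mul (clv E) (clv F) = clv (CohB1.tensorMod E F) := by
  classical
  have hg : ∀ E : X.Modules, FlatMod.IsFinLocFree E → ∃ G : KV →+ KV, ∀ F, FlatMod.IsFinLocFree F →
      G (clv F) = clv (CohB1.tensorMod E F) := fun E hE =>
    exists_lift (fun F => clv (CohB1.tensorMod E F)) fun S hS h₁ h₂ h₃ => by
      rw [ExtFilt28.clv_iso (tensorComm E S.X₂), ExtFilt28.clv_iso (tensorComm E S.X₁),
        ExtFilt28.clv_iso (tensorComm E S.X₃)]
      exact clv_tensor_ses hE hS h₁ h₂ h₃
  choose G hG using hg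
  obtain ⟨mul, hmul⟩ := exists_lift (fun E => if h : FlatMod.IsFinLocFree E then G E h else 0)
    fun S hS h₁ h₂ h₃ => by
      simp only [dif_pos h₁, dif_pos h₂, dif_pos h₃]
      refine AddMonoidHom.ext fun x => kvb_induction (P := fun x => G _ h₂ x = (G _ h₁ + G _ h₃) x) ?_ ?_ ?_ ?_ x
      · simp
      · intro F hF
        rw [AddMonoidHom.add_apply, hG _ _ F hF, hG _ _ F hF, hG _ _ F hF]
        exact clv_tensor_ses hF hS h₁ h₂ h₃
      · intro a h; rw [map_neg, map_neg, h]
      · intro a b ha hb; rw [map_add, map_add, ha, hb]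
  exact ⟨mul, fun E F hE hF => by rw [hmul E hE, dif_pos hE, hG E hE F hF]⟩

theorem exists_iso_of_isExtPow {i : ℕ} {E L L' : X.Modules} (h : ExtPow.IsExtPow i E L) (h' : ExtPow.IsExtPow i E L') :
    Nonempty (L ≅ L') := by
  obtain ⟨φ, hφ⟩ := h
  obtain ⟨φ', hφ'⟩ := h'
  let F : ∀ U : X.affineOpens, Γ(L, U.1) →ₗ[Γ(X, U.1)] Γ(L', U.1) := fun U =>
    (φ' U).symm.toLinearMap.comp (φ U).toLinearMap
  have hFw : ∀ (U : X.affineOpens) (v : Fin i → Γ(E, U.1)), F U (wedge φ U v) = wedge φ' U v := fun U v => by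
    show (φ' U).symm (φ U ((φ U).symm _)) = _
    rw [LinearEquiv.apply_symm_apply]
    rfl
  obtain ⟨ψ, hψ⟩ := InjMod14.Kosz.exists_hom_of_affine L L' F fun U V hVU s => by
    refine ExtFilt28.wedge_induction φ (P := fun s => F V (resM L hVU s) = resM L' hVU (F U s)) ?_ ?_ ?_ ?_ s
    · rw [map_zero, map_zero, map_zero, map_zero]
    · intro a b ha hb; rw [map_add, map_add, map_add, map_add, ha, hb]
    · intro r a ha; rw [resM_smul, map_smul, ha, map_smul, resM_smul]
    · intro v; rw [wedge_res φ hφ hVU, hFw, hFw, wedge_res φ' hφ' hVU]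
  haveI : IsIso ψ := InjMod14.Kosz.isIso_of_affine_nbhds ψ fun W x hx => by
    obtain ⟨V, hV, hxV, hle⟩ := TopologicalSpace.Opens.isBasis_iff_nbhd.1 X.isBasis_affineOpens hx
    refine ⟨⟨V, hV⟩, hxV, hle, ?_⟩
    rw [show ⇑(ψ.app V) = ⇑(F ⟨V, hV⟩) from funext fun s => hψ ⟨V, hV⟩ s]
    exact ((φ ⟨V, hV⟩).trans (φ' ⟨V, hV⟩).symm).bijective
  exact ⟨asIso ψ⟩

theorem isExtPow_zero (E : X.Modules) : ExtPow.IsExtPow 0 E (Coh.structureModule X) := by
  refine ⟨fun U => (exteriorPower.zeroEquiv Γ(X, U.1) (E.val.obj (op U.1))).symm, fun U V h e => ?_⟩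
  refine (congrArg ((Coh.structureModule X).val.map (homOfLE h).op)
    (exteriorPower.zeroEquiv_ιMulti (R := Γ(X, U.1)) e)).trans ?_
  exact (map_one (X.presheaf.map (homOfLE h).op).hom).trans (exteriorPower.zeroEquiv_ιMulti (R := Γ(X, V.1)) _).symm

theorem isExtPow_one (E : X.Modules) : ExtPow.IsExtPow 1 E E := by
  refine ⟨fun U => (exteriorPower.oneEquiv Γ(X, U.1) (E.val.obj (op U.1))).symm, fun U V h e => ?_⟩
  exact (congrArg (E.val.map (homOfLE h).op) (exteriorPower.oneEquiv_ιMulti (R := Γ(X, U.1)) e)).trans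
    (exteriorPower.oneEquiv_ιMulti (R := Γ(X, V.1)) (M := E.val.obj (op V.1)) fun j => E.val.map (homOfLE h).op (e j)).symm

theorem isFinLocFree_structure : FlatMod.IsFinLocFree (Coh.structureModule X) :=
  Coherent.CohBC.isFinLocFree_structureModule X

section Ring

variable (mul : SGA6.Kvb X →+ SGA6.Kvb X →+ SGA6.Kvb X)
  (hmul : ∀ E F : X.Modules, FlatMod.IsFinLocFree E → FlatMod.IsFinLocFree F →
    mul (KZero.clSub (fun M : X.Modules => FlatMod.IsFinLocFree M) E) (KZero.clSub (fun M : X.Modules => FlatMod.IsFinLocFree M) F) =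
      KZero.clSub (fun M : X.Modules => FlatMod.IsFinLocFree M) (CohB1.tensorMod E F))
include hmul

theorem mul_comm' (x y : KV) : mul x y = mul y x := by
  refine kvb_induction (P := fun x => mul x y = mul y x) ?_ ?_ ?_ ?_ x
  · simp
  · intro E hE
    refine kvb_induction (P := fun y => mul (clv E) y = mul y (clv E)) ?_ ?_ ?_ ?_ y
    · simp
    · intro F hF; rw [hmul E F hE hF, hmul F E hF hE, ExtFilt28.clv_iso (tensorComm E F)]
    · intro a h; rw [map_neg, map_neg, AddMonoidHom.neg_apply, h]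
    · intro a b ha hb; rw [map_add, map_add, AddMonoidHom.add_apply, ha, hb]
  · intro a h; rw [map_neg, map_neg, AddMonoidHom.neg_apply, h]
  · intro a b ha hb; rw [map_add, map_add, AddMonoidHom.add_apply, ha, hb]

theorem mul_assoc' (x y z : KV) : mul (mul x y) z = mul x (mul y z) := by
  refine kvb_induction (P := fun x => mul (mul x y) z = mul x (mul y z)) ?_ ?_ ?_ ?_ x
  · simp
  · intro E hE
    refine kvb_induction (P := fun y => mul (mul (clv E) y) z = mul (clv E) (mul y z)) ?_ ?_ ?_ ?_ y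
    · simp
    · intro F hF
      refine kvb_induction (P := fun z => mul (mul (clv E) (clv F)) z = mul (clv E) (mul (clv F) z)) ?_ ?_ ?_ ?_ z
      · simp
      · intro G hG
        rw [hmul E F hE hF, hmul _ G (ExtFilt28.isFinLocFree_tensor hE hF) hG, hmul F G hF hG,
          hmul E _ hE (ExtFilt28.isFinLocFree_tensor hF hG)]
        exact ExtFilt28.clv_iso (DCat.TensorAssoc.assocIso E F G)
      · intro a h; rw [map_neg, map_neg, map_neg, h]
      · intro a b ha hb; rw [map_add, map_add, map_add, ha, hb]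
    · intro a h; simp only [map_neg, AddMonoidHom.neg_apply, h]
    · intro a b ha hb; simp only [map_add, AddMonoidHom.add_apply, ha, hb]
  · intro a h; simp only [map_neg, AddMonoidHom.neg_apply, h]
  · intro a b ha hb; simp only [map_add, AddMonoidHom.add_apply, ha, hb]

theorem one_mul' (x : KV) : mul (clv (Coh.structureModule X)) x = x := by
  refine kvb_induction (P := fun x => mul (clv (Coh.structureModule X)) x = x) ?_ ?_ ?_ ?_ x
  · simp
  · intro E hE
    rw [hmul _ E isFinLocFree_structure hE, ExtFilt28.clv_iso (unitTensorIso E)]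
  · intro a h; rw [map_neg, h]
  · intro a b ha hb; rw [map_add, ha, hb]

/-- The ring structure. -/
noncomputable abbrev kvbRing : CommRing KV :=
  { (inferInstance : AddCommGroup KV) with
    mul := fun x y => mul x y
    one := clv (Coh.structureModule X)
    mul_assoc := mul_assoc' mul hmul
    one_mul := one_mul' mul hmul
    mul_one := fun x => (mul_comm' mul hmul x _).trans (one_mul' mul hmul x)
    mul_comm := mul_comm' mul hmul
    left_distrib := fun x y z => map_add (mul x) y z
    right_distrib := fun x y z => (congrArg (fun g : KV →+ KV => g z) (map_add mul x y)).trans rfl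
    zero_mul := fun x => (congrArg (fun g : KV →+ KV => g x) (map_zero mul)).trans rfl
    mul_zero := fun x => map_zero (mul x) }

theorem exists_lam
    (hext : ∀ (i : ℕ) (E : X.Modules), FlatMod.IsFinLocFree E → ∃ L : X.Modules, FlatMod.IsFinLocFree L ∧ ExtPow.IsExtPow i E L) :
    ∃ lam : ℕ → KV → KV,
      (∀ (i : ℕ) (E L : X.Modules), FlatMod.IsFinLocFree E → ExtPow.IsExtPow i E L → lam i (clv E) = clv L) ∧
      (∀ x, lam 0 x = clv (Coh.structureModule X)) ∧ (∀ x, lam 1 x = x) ∧
      ∀ (k : ℕ) (x y : KV), lam k (x + y) = ∑ i ∈ Finset.range (k + 1), mul (lam i x) (lam (k - i) y) := by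
  classical
  letI := kvbRing mul hmul
  choose Lx hLf hLp using hext
  let c : ∀ E : X.Modules, FlatMod.IsFinLocFree E → ℕ → KV := fun E hE i => clv (Lx i E hE)
  have hc : ∀ (i : ℕ) (E L : X.Modules) (hE : FlatMod.IsFinLocFree E), ExtPow.IsExtPow i E L → c E hE i = clv L :=
    fun i E L hE hL => by
      obtain ⟨e⟩ := exists_iso_of_isExtPow (hLp i E hE) hL
      exact ExtFilt28.clv_iso e
  have hc0 : ∀ E hE, c E hE 0 = 1 := fun E hE => hc 0 E _ hE (isExtPow_zero E)
  have hu : ∀ E hE, IsUnit (PowerSeries.mk (c E hE) : PowerSeries KV) := fun E hE => by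
    rw [PowerSeries.isUnit_iff_constantCoeff, ← PowerSeries.coeff_zero_eq_constantCoeff_apply, PowerSeries.coeff_mk,
      hc0]
    exact isUnit_one
  let f : X.Modules → Additive (PowerSeries KV)ˣ := fun E =>
    if hE : FlatMod.IsFinLocFree E then Additive.ofMul (hu E hE).unit else 0
  obtain ⟨F, hF⟩ := exists_lift f fun S hS h₁ h₂ h₃ => by
    simp only [f, dif_pos h₁, dif_pos h₂, dif_pos h₃, ← ofMul_mul]
    refine congrArg Additive.ofMul (Units.ext ?_)
    rw [Units.val_mul, IsUnit.unit_spec, IsUnit.unit_spec, IsUnit.unit_spec]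
    ext n
    rw [PowerSeries.coeff_mk, PowerSeries.coeff_mul, Finset.Nat.sum_antidiagonal_eq_sum_range_succ_mk]
    choose φ' c' using fun i => hLp i S.X₁ h₁
    choose φ cc using fun i => hLp i S.X₂ h₂
    choose φ'' c'' using fun i => hLp i S.X₃ h₃
    haveI : ∀ i, Coh.IsQCoh (Lx i S.X₁ h₁) := fun i => CAlgH3.LocFreeFactor.isQCoh_of_finLocFree (hLf i _ h₁)
    haveI : ∀ i, Coh.IsQCoh (Lx i S.X₂ h₂) := fun i => CAlgH3.LocFreeFactor.isQCoh_of_finLocFree (hLf i _ h₂)
    haveI : ∀ i, Coh.IsQCoh (Lx i S.X₃ h₃) := fun i => CAlgH3.LocFreeFactor.isQCoh_of_finLocFree (hLf i _ h₃)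
    refine (ExtFilt28.clv_extPow hS h₁ h₃ φ' φ φ'' c' cc c'' (fun i => hLf i _ h₁) (fun i => hLf i _ h₃) n).trans ?_
    refine Finset.sum_congr rfl fun i _ => ?_
    rw [PowerSeries.coeff_mk, PowerSeries.coeff_mk]
    exact (hmul _ _ (hLf i _ h₁) (hLf (n - i) _ h₃)).symm
  let lam : ℕ → KV → KV := fun i x => PowerSeries.coeff i ((Additive.toMul (F x) : (PowerSeries KV)ˣ) : PowerSeries KV)
  have hlam : ∀ (i : ℕ) (E : X.Modules) (hE : FlatMod.IsFinLocFree E), lam i (clv E) = c E hE i := fun i E hE => by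
    simp only [lam, hF E hE, f, dif_pos hE, toMul_ofMul, IsUnit.unit_spec, PowerSeries.coeff_mk]
  have hadd : ∀ (k : ℕ) (x y : KV), lam k (x + y) = ∑ i ∈ Finset.range (k + 1), mul (lam i x) (lam (k - i) y) := by
    intro k x y
    simp only [lam, map_add, toMul_add, Units.val_mul, PowerSeries.coeff_mul,
      Finset.Nat.sum_antidiagonal_eq_sum_range_succ_mk]
    rfl
  have h0 : ∀ x, lam 0 x = 1 := fun x => by
    refine kvb_induction (P := fun x => lam 0 x = 1) ?_ ?_ ?_ ?_ x
    · simp [lam]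
    · intro E hE; rw [hlam 0 E hE, hc0]
    · intro a h
      have := hadd 0 a (-a)
      rw [add_neg_cancel, Finset.sum_range_one, h] at this
      simp only [lam, map_zero, toMul_zero, Units.val_one, PowerSeries.coeff_one, if_true] at this
      exact ((this.trans (one_mul' mul hmul _)).symm)
    · intro a b ha hb
      rw [hadd, Finset.sum_range_one, ha, hb]
      exact one_mul' mul hmul _
  refine ⟨lam, fun i E L hE hL => (hlam i E hE).trans (hc i E L hE hL), h0, fun x => ?_, hadd⟩
  let G : KV →+ KV := AddMonoidHom.mk' (lam 1) fun a b => by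
    have e1 : ∀ z, mul (1 : SGA6.Kvb X) z = z := one_mul' mul hmul
    rw [hadd, Finset.sum_range_succ, Finset.sum_range_one, h0 a, h0 b, e1, mul_comm' mul hmul, e1, add_comm]
  show G x = x
  refine kvb_induction (P := fun x => G x = x) (map_zero G) ?_ ?_ ?_ x
  · intro E hE; exact (hlam 1 E hE).trans (hc 1 E E hE (isExtPow_one E))
  · intro a h; rw [map_neg, h]
  · intro a b ha hb; rw [map_add, ha, hb]

end Ring

end Groth.Agent.KvbLam28
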